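import Groth.Agent.CurvesB.EtaleCompl
import Groth.Agent.UnramA.FieldFibre
import Groth.Agent.Sga3C.FlatOfComp
import Groth.Agent.S0543
import Mathlib.RingTheory.AdicCompletion.LocalRing
import Mathlib.RingTheory.AdicCompletion.AsTensorProduct
import Mathlib.RingTheory.AdicCompletion.Noetherian

/-!
# Local homomorphisms inducing isomorphisms modulo all powers of the maximal ideals

`SameCpl A B`: `A`, `B` local rings, `B` an `A`-algebra with `m_A B = m_B` and
`A / m_A^n → B / m_B^n` bijective for all `n`.  For `A`, `B` Noetherian: `B` is flat over `A`, the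
completions agree, and dimension, regularity and Cohen-Macaulayness agree.
-/

set_option autoImplicit false
universe u

open IsLocalRing

namespace Groth.Agent.Gaga.H445.Core

/-- `m_A B = m_B` and `A / m_A^n → B / m_B^n` is bijective for all `n`. -/
structure SameCpl (A B : Type u) [CommRing A] [CommRing B] [IsLocalRing A] [IsLocalRing B]
    [Algebra A B] : Prop where
  map_max : (maximalIdeal A).map (algebraMap A B) = maximalIdeal B
  surj : ∀ (n : ℕ) (b : B), ∃ a : A, b - algebraMap A B a ∈ maximalIdeal B ^ n
  inj : ∀ (n : ℕ) (a : A), algebraMap A B a ∈ maximalIdeal B ^ n → a ∈ maximalIdeal A ^ n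

variable {A B : Type u} [CommRing A] [CommRing B] [IsLocalRing A] [IsLocalRing B] [Algebra A B]

namespace SameCpl

variable (h : SameCpl A B)
include h

theorem isLocalHom : IsLocalHom (algebraMap A B) := by
  refine ⟨fun a ha => ?_⟩
  by_contra hna
  have h1 : a ∈ maximalIdeal A := (mem_maximalIdeal a).mpr hna
  have h2 : algebraMap A B a ∈ maximalIdeal B := by
    rw [← h.map_max]; exact Ideal.mem_map_of_mem _ h1
  exact (mem_maximalIdeal _).mp h2 ha

theorem exists_ringEquiv : ∃ e : AdicCompletion (maximalIdeal A) A ≃+*
    AdicCompletion (maximalIdeal B) B,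
    ∀ a, e (algebraMap A _ a) = algebraMap B _ (algebraMap A B a) := by
  refine Groth.Agent.CurvesB.EtaleCompl.exists_completion_ringEquiv (algebraMap A B) _ _ ?_ h.inj
    h.surj
  rw [← Ideal.map_le_iff_le_comap, h.map_max]

variable [IsNoetherianRing A] [IsNoetherianRing B]

theorem flat : Module.Flat A B := by
  obtain ⟨e, he⟩ := h.exists_ringEquiv
  have hff : Module.FaithfullyFlat B (AdicCompletion (maximalIdeal B) B) :=
    Module.FaithfullyFlat.of_flat_of_isLocalHom
  let e' : AdicCompletion (maximalIdeal A) A ≃ₐ[A] AdicCompletion (maximalIdeal B) B :=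
    AlgEquiv.ofRingEquiv (f := e) he
  have : Module.Flat A (AdicCompletion (maximalIdeal B) B) :=
    Module.Flat.of_linearEquiv e'.symm.toLinearEquiv
  exact Groth.Agent.Sga3C.FlatOfComp.module_flat_of_comp A B (AdicCompletion (maximalIdeal B) B)

theorem faithfullyFlat : Module.FaithfullyFlat A B := by
  have := h.isLocalHom
  have := h.flat
  exact Module.FaithfullyFlat.of_flat_of_isLocalHom

theorem ringKrullDim_eq : ringKrullDim A = ringKrullDim B := by
  have := h.isLocalHom
  have := h.flat
  exact (Groth.Agent.UnramA.FieldFibre.ringKrullDim_eq A B h.map_max).symm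

theorem isRegularLocalRing_iff : IsRegularLocalRing A ↔ IsRegularLocalRing B := by
  have := h.isLocalHom
  have := h.flat
  exact (Groth.Agent.UnramA.FieldFibre.isRegularLocalRing_iff A B h.map_max).symm

theorem isCohenMacaulayLocalRing_iff :
    LocCoh.IsCohenMacaulayLocalRing A ↔ LocCoh.IsCohenMacaulayLocalRing B := by
  have := h.isLocalHom
  have := h.flat
  exact (Groth.Agent.UnramA.FieldFibre.isCohenMacaulayLocalRing_iff A B h.map_max).symm

end SameCpl

end Groth.Agent.Gaga.H445.Core
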